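import Mathlib

set_option linter.unusedSectionVars false
set_option linter.unusedVariables false
set_option linter.unusedSimpArgs false
set_option autoImplicit false
set_option linter.style.haveILetI false
set_option maxHeartbeats 400000

universe v u w

noncomputable section

namespace Groth.Agent.Helper6.Cosh

open CategoryTheory CategoryTheory.Limits

variable {C : Type u} [Category.{v} C] [HasPullbacks C] (W : MorphismProperty C)
  [W.IsStableUnderBaseChange] [W.IsStableUnderComposition]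
  (D : ObjectProperty C)

/-- abelian cosheaves for the class of covers `W` -/
abbrev IsCosh : ObjectProperty (C ⥤ AddCommGrpCat.{w}) := fun F =>
  ∀ ⦃Y X : C⦄ (π : Y ⟶ X), W π → Function.Surjective (F.map π).hom ∧
    (F.map π).hom.ker = ((F.map (pullback.fst π π)).hom - (F.map (pullback.snd π π)).hom).range

lemma map_comp_apply (G : C ⥤ AddCommGrpCat.{w}) {X Y Z : C} (f : X ⟶ Y) (g : Y ⟶ Z)
    (x : G.obj X) : (G.map g).hom ((G.map f).hom x) = (G.map (f ≫ g)).hom x := by
  rw [G.map_comp]; rfl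

variable {W D}
variable (hD : ∀ X : C, ∃ (Y : C) (π : Y ⟶ X), W π ∧ D Y)
variable {F G : C ⥤ AddCommGrpCat.{w}} (hF : IsCosh W F)
  (τ : D.ι ⋙ F ⟶ D.ι ⋙ G)

include hD hF in
lemma key {Y X : C} (π : Y ⟶ X) (hπ : W π) (hY : D Y) (y : F.obj Y)
    (hy : (F.map π).hom y = 0) : (G.map π).hom ((τ.app ⟨Y, hY⟩).hom y) = 0 := by
  have h1 : y ∈ (F.map π).hom.ker := hy
  rw [(hF π hπ).2] at h1
  obtain ⟨z, hz⟩ := h1
  obtain ⟨Z, ρ, hρ, hZ⟩ := hD (pullback π π)
  obtain ⟨t, rfl⟩ := (hF ρ hρ).1 z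
  have e1 : y = (F.map (ρ ≫ pullback.fst π π)).hom t - (F.map (ρ ≫ pullback.snd π π)).hom t := by
    rw [← hz]
    simp
  have n1 := τ.naturality (X := ⟨Z, hZ⟩) (Y := ⟨Y, hY⟩)
    (ObjectProperty.homMk (ρ ≫ pullback.fst π π))
  have n2 := τ.naturality (X := ⟨Z, hZ⟩) (Y := ⟨Y, hY⟩)
    (ObjectProperty.homMk (ρ ≫ pullback.snd π π))
  have n1' : (τ.app ⟨Y, hY⟩).hom ((F.map (ρ ≫ pullback.fst π π)).hom t) =
      (G.map (ρ ≫ pullback.fst π π)).hom ((τ.app ⟨Z, hZ⟩).hom t) := by
    have := congrArg (fun φ => φ.hom t) n1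
    simpa using this
  have n2' : (τ.app ⟨Y, hY⟩).hom ((F.map (ρ ≫ pullback.snd π π)).hom t) =
      (G.map (ρ ≫ pullback.snd π π)).hom ((τ.app ⟨Z, hZ⟩).hom t) := by
    have := congrArg (fun φ => φ.hom t) n2
    simpa using this
  rw [e1, map_sub, map_sub, n1', n2', sub_eq_zero]
  rw [map_comp_apply, map_comp_apply, Category.assoc, Category.assoc, pullback.condition]

lemma tau_nat {Z Y : C} (hZ : D Z) (hY : D Y) (a : Z ⟶ Y) (t : F.obj Z) :
    (τ.app ⟨Y, hY⟩).hom ((F.map a).hom t) = (G.map a).hom ((τ.app ⟨Z, hZ⟩).hom t) := by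
  have n1 := τ.naturality (X := ⟨Z, hZ⟩) (Y := ⟨Y, hY⟩) (ObjectProperty.homMk a)
  have := congrArg (fun φ => φ.hom t) n1
  simpa using this

/-- chosen cover -/
def cov (X : C) : C := (hD X).choose

def covπ (X : C) : cov hD X ⟶ X := (hD X).choose_spec.choose

lemma covπ_W (X : C) : W (covπ hD X) := (hD X).choose_spec.choose_spec.1

lemma cov_D (X : C) : D (cov hD X) := (hD X).choose_spec.choose_spec.2

/-- the extension, as a function -/
def extFun (X : C) (x : F.obj X) : G.obj X :=
  (G.map (covπ hD X)).hom ((τ.app ⟨cov hD X, cov_D hD X⟩).hom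
    ((hF (covπ hD X) (covπ_W hD X)).1 x).choose)

include hF in
lemma extFun_spec (X : C) (y : F.obj (cov hD X)) :
    extFun hD hF τ X ((F.map (covπ hD X)).hom y) =
      (G.map (covπ hD X)).hom ((τ.app ⟨cov hD X, cov_D hD X⟩).hom y) := by
  unfold extFun
  set y' := ((hF (covπ hD X) (covπ_W hD X)).1 ((F.map (covπ hD X)).hom y)).choose with hy'
  have h1 : (F.map (covπ hD X)).hom y' = (F.map (covπ hD X)).hom y :=
    ((hF (covπ hD X) (covπ_W hD X)).1 ((F.map (covπ hD X)).hom y)).choose_spec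
  have h2 := key hD hF τ (covπ hD X) (covπ_W hD X) (cov_D hD X) (y' - y)
    (by rw [map_sub, h1, sub_self])
  rw [map_sub, map_sub, sub_eq_zero] at h2
  exact h2

lemma extFun_strong (X : C) {Y' : C} (hY' : D Y') (π' : Y' ⟶ X) (y' : F.obj Y') :
    extFun hD hF τ X ((F.map π').hom y') = (G.map π').hom ((τ.app ⟨Y', hY'⟩).hom y') := by
  obtain ⟨Z, ρ, hρ, hZ⟩ := hD (pullback (covπ hD X) π')
  have hsnd : W (pullback.snd (covπ hD X) π') :=
    MorphismProperty.pullback_snd _ _ (covπ_W hD X)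
  have hb : W (ρ ≫ pullback.snd (covπ hD X) π') := W.comp_mem _ _ hρ hsnd
  obtain ⟨t, rfl⟩ := (hF _ hb).1 y'
  have e1 : (F.map π').hom ((F.map (ρ ≫ pullback.snd (covπ hD X) π')).hom t) =
      (F.map (covπ hD X)).hom ((F.map (ρ ≫ pullback.fst (covπ hD X) π')).hom t) := by
    rw [map_comp_apply, map_comp_apply, Category.assoc, Category.assoc, pullback.condition]
  rw [e1, extFun_spec hD hF τ, tau_nat τ hZ (cov_D hD X), tau_nat τ hZ hY', map_comp_apply,
    map_comp_apply, Category.assoc, Category.assoc, pullback.condition]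

lemma extFun_add (X : C) (x x' : F.obj X) :
    extFun hD hF τ X (x + x') = extFun hD hF τ X x + extFun hD hF τ X x' := by
  obtain ⟨y, rfl⟩ := (hF (covπ hD X) (covπ_W hD X)).1 x
  obtain ⟨y', rfl⟩ := (hF (covπ hD X) (covπ_W hD X)).1 x'
  rw [← map_add, extFun_spec, extFun_spec, extFun_spec, map_add, map_add]

/-- the extension as a natural transformation -/
def ext : F ⟶ G where
  app X := AddCommGrpCat.ofHom (AddMonoidHom.mk' (extFun hD hF τ X) (extFun_add hD hF τ X))
  naturality X X' f := by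
    ext x
    obtain ⟨y, rfl⟩ := (hF (covπ hD X) (covπ_W hD X)).1 x
    change extFun hD hF τ X' ((F.map f).hom ((F.map (covπ hD X)).hom y)) =
      (G.map f).hom (extFun hD hF τ X ((F.map (covπ hD X)).hom y))
    rw [map_comp_apply, extFun_strong hD hF τ X' (cov_D hD X), extFun_spec, map_comp_apply]

lemma ext_restrict : Functor.whiskerLeft D.ι (ext hD hF τ) = τ := by
  ext ⟨X, hX⟩ x
  change extFun hD hF τ X x = (τ.app ⟨X, hX⟩).hom x
  have := extFun_strong hD hF τ X hX (𝟙 X) x
  simpa using this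

include hD hF in
lemma ext_unique (α β : F ⟶ G) (h : Functor.whiskerLeft D.ι α = Functor.whiskerLeft D.ι β) :
    α = β := by
  ext X x
  obtain ⟨y, rfl⟩ := (hF (covπ hD X) (covπ_W hD X)).1 x
  have hα : (α.app X).hom ((F.map (covπ hD X)).hom y) =
      (G.map (covπ hD X)).hom ((α.app (cov hD X)).hom y) := by
    have := congrArg (fun φ => φ.hom y) (α.naturality (covπ hD X))
    simpa using this
  have hβ : (β.app X).hom ((F.map (covπ hD X)).hom y) =
      (G.map (covπ hD X)).hom ((β.app (cov hD X)).hom y) := by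
    have := congrArg (fun φ => φ.hom y) (β.naturality (covπ hD X))
    simpa using this
  have hab : α.app (cov hD X) = β.app (cov hD X) :=
    congrArg (fun φ => φ.app ⟨cov hD X, cov_D hD X⟩) h
  change (α.app X).hom ((F.map (covπ hD X)).hom y) = (β.app X).hom ((F.map (covπ hD X)).hom y)
  rw [hα, hβ, hab]

include hD in
theorem full_faithful :
    ((IsCosh.{v, u, w} W).ι ⋙ (Functor.whiskeringLeft D.FullSubcategory C AddCommGrpCat.{w}).obj D.ι).Full ∧
    ((IsCosh.{v, u, w} W).ι ⋙ (Functor.whiskeringLeft D.FullSubcategory C AddCommGrpCat.{w}).obj D.ι).Faithful := by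
  constructor
  · constructor
    intro F G τ
    exact ⟨ObjectProperty.homMk (ext hD F.property τ), ext_restrict hD F.property τ⟩
  · constructor
    intro F G α β h
    apply ObjectProperty.hom_ext
    exact ext_unique hD F.property α.hom β.hom h

end Groth.Agent.Helper6.Cosh
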